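import Cfsg.Agent.Lib.Leech.UniqueAux
import Cfsg.Agent.Lib.H3.GolayModule
import Cfsg.Agent.Lib.Concrete.Octad
import Cfsg.Agent.Lib.Concrete.SteinerAut
import Cfsg.Agent.Lib.Concrete.SteinerCode
import Cfsg.Agent.S0358

/-!
Linear maps of the Golay code preserving the octads up to complements come from `M24`.
-/

set_option autoImplicit false
set_option linter.style.haveILetI false

namespace Cfsg.Lib.Golay.Duads

open Finset Cfsg.Lib.Concrete Cfsg.Lib.H3.Golay Cfsg.Lib.Leech.Unique
open scoped Pointwise symmDiff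

theorem ind_apply (s : Finset GolayPt) (p : GolayPt) : ind s p = if p ∈ s then 1 else 0 := by
  have h : ind s p ≠ 0 ↔ p ∈ s := by
    conv_rhs => rw [← support₂_ind s]
    simp [support₂]
  split
  · exact (show ∀ a : ZMod 2, a ≠ 0 → a = 1 by decide) _ (h.2 ‹_›)
  · exact not_not.1 fun hc => ‹p ∉ s› (h.1 hc)

/-- The functional of a set of points. -/
def phi (s : Finset GolayPt) : Module.Dual (ZMod 2) golayCode := dotDual golayCode (ind s)

theorem phi_apply (s : Finset GolayPt) (c : golayCode) :
    phi s c = ∑ p, ind s p * (c : GolayPt → ZMod 2) p := rfl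

theorem phi_ind (s t : Finset GolayPt) (ht : ind t ∈ golayCode) :
    phi s ⟨ind t, ht⟩ = ((s ∩ t).card : ZMod 2) := by
  rw [phi_apply]
  simp only [ind_apply, mul_ite, mul_one, mul_zero, ← ite_and, Finset.sum_boole]
  congr 2
  ext p
  simp [and_comm]

theorem phi_symmDiff (s t : Finset GolayPt) : phi (s ∆ t) = phi s + phi t := by
  rw [phi, ind_symmDiff, map_add]; rfl

theorem code_orth {c d : GolayPt → ZMod 2} (hc : c ∈ golayCode) (hd : d ∈ golayCode) : ∑ p, c p * d p = 0 := by
  rw [← ind_support₂ c, ← ind_support₂ d]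
  simp only [ind_apply, mul_ite, mul_one, mul_zero, ← ite_and, Finset.sum_boole]
  have h := supports_even_inter (s := support₂ c) (t := support₂ d) ⟨c, hc, rfl⟩ ⟨d, hd, rfl⟩
  rw [ZMod.natCast_eq_zero_iff_even]
  convert h using 2
  ext p
  simp [and_comm]

theorem phi_eq_iff {s t : Finset GolayPt} : phi s = phi t ↔ ind (s ∆ t) ∈ golayCode := by
  constructor
  · intro h
    refine mem_of_orth (fun c hc d hd => code_orth hc hd) (by rw [Cfsg.Agent.S0358.result]; rfl) fun c hc => ?_
    have := LinearMap.congr_fun (phi_symmDiff s t) ⟨c, hc⟩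
    rw [phi_apply] at this
    rw [this, LinearMap.add_apply, h]
    generalize phi t ⟨c, hc⟩ = a
    revert a; decide
  · intro h
    refine LinearMap.ext fun c => ?_
    have := LinearMap.congr_fun (phi_symmDiff s t) c
    rw [phi_apply, code_orth h c.2, LinearMap.add_apply] at this
    revert this
    generalize phi s c = a
    generalize phi t c = b
    revert a b; decide

theorem eq_of_phi_eq {s t : Finset GolayPt} (h : phi s = phi t) (h8 : s.card + t.card < 8) : s = t := by
  by_contra hne
  refine ind_not_mem ?_ ?_ (phi_eq_iff.1 h)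
  · exact Finset.nonempty_iff_ne_empty.2 fun he => hne (symmDiff_eq_bot.1 he)
  · refine lt_of_le_of_lt ?_ h8
    exact (Finset.card_le_card (symmDiff_le_iff.2 ⟨by intro x hx; simp [hx], by intro x hx; simp [hx]⟩)).trans
      (Finset.card_union_le s t)

theorem disjoint_of_phi_eq {s t : Finset GolayPt} (hs : s.card = 4) (ht : t.card = 4) (hne : s ≠ t)
    (h : phi s = phi t) : Disjoint s t := by
  have h8 : 8 ≤ (s ∆ t).card := by
    by_contra hlt
    refine ind_not_mem ?_ (not_le.1 hlt) (phi_eq_iff.1 h)
    exact Finset.nonempty_iff_ne_empty.2 fun he => hne (symmDiff_eq_bot.1 he)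
  rw [symmDiff_def, sup_eq_union, card_union_of_disjoint disjoint_sdiff_sdiff] at h8
  have e1 := card_sdiff_add_card_inter s t
  have e2 := card_sdiff_add_card_inter t s
  rw [inter_comm t s] at e2
  exact Finset.card_eq_zero.1 (show (s ∩ t).card = 0 by omega) |> Finset.disjoint_iff_inter_eq_empty.2

/-- The word 1. -/
def oneC : golayCode := ⟨fun _ => (1 : ZMod 2), Submodule.subset_span (Or.inr rfl)⟩

theorem phi_one (s : Finset GolayPt) : phi s oneC = (s.card : ZMod 2) := by
  rw [phi_apply]
  simp [oneC, ind_apply, Finset.sum_boole]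

theorem octad_word {o : Finset GolayPt} (ho : o ∈ octads) : ind o ∈ golayCode := by
  obtain ⟨⟨c, hc, rfl⟩, -⟩ := ho
  rwa [ind_support₂]

/-- Number of octads meeting `s` oddly. -/
noncomputable def oddCount (f : Module.Dual (ZMod 2) golayCode) : ℕ :=
  {o : Finset GolayPt | o ∈ octads ∧ ∃ h : ind o ∈ golayCode, f ⟨ind o, h⟩ = 1}.ncard

theorem oddCount_phi (s : Finset GolayPt) :
    oddCount (phi s) = {o : Finset GolayPt | o ∈ octads ∧ (s ∩ o).card % 2 = 1}.ncard := by
  unfold oddCount
  congr 1
  ext o
  simp only [Set.mem_setOf_eq]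
  refine and_congr_right fun ho => ?_
  constructor
  · rintro ⟨h, hf⟩
    rw [phi_ind, ← Nat.cast_one, ZMod.natCast_eq_natCast_iff'] at hf
    simpa using hf
  · intro h
    refine ⟨octad_word ho, ?_⟩
    rw [phi_ind, ← Nat.cast_one, ZMod.natCast_eq_natCast_iff']
    simpa using h

theorem oddCount_smul {g : Equiv.Perm GolayPt} (hg : g ∈ M24) (s : Finset GolayPt) :
    oddCount (phi (g • s)) = oddCount (phi s) := by
  rw [oddCount_phi, oddCount_phi]
  refine ncard_eq_of_smul g fun o => ?_
  simp only [Set.mem_setOf_eq, smul_mem_octads_iff hg, ← Finset.smul_finset_inter, Finset.card_smul_finset]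

theorem oddCount_mset (a : ℕ) :
    oddCount (phi (mset a)) = (octList.filter fun m => pcnt (Nat.land a m) % 2 == 1).length := by
  rw [oddCount_phi]
  exact ncard_octads _ _ fun m _ => by rw [card_mset_inter, beq_iff_eq]

theorem oddCount_duad {s : Finset GolayPt} (hs : s.card = 2) : oddCount (phi s) = 352 := by
  obtain ⟨a, b, hab, rfl⟩ := Finset.card_eq_two.1 hs
  obtain ⟨a', b', hab', h0⟩ := Finset.card_eq_two.1 (show (mset 3).card = 2 by decide +kernel)
  obtain ⟨g, hg, rfl, rfl⟩ := map_two hab' hab
  rw [show ({g a', g b'} : Finset GolayPt) = g • mset 3 by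
    rw [h0]; simp [Finset.smul_finset_insert, Equiv.Perm.smul_def], oddCount_smul hg, oddCount_mset]
  decide +kernel

theorem oddCount_tetrad {s : Finset GolayPt} (hs : s.card = 4) : oddCount (phi s) = 384 := by
  obtain ⟨g, hg, hgx⟩ := exists_map (k := 4) (by norm_num)
    (fun i => ((mset 15).equivFinOfCardEq (show (mset 15).card = 4 by decide +kernel)).symm i)
    (fun i => (s.equivFinOfCardEq hs).symm i)
    (fun i j h => ((mset 15).equivFinOfCardEq _).symm.injective (Subtype.ext h))
    (fun i j h => (s.equivFinOfCardEq hs).symm.injective (Subtype.ext h))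
  have e : g • mset 15 = s := by
    refine Finset.eq_of_subset_of_card_le ?_ (by rw [Finset.card_smul_finset, hs]; decide +kernel)
    intro p hp
    obtain ⟨q, hq, rfl⟩ := Finset.mem_smul_finset.1 hp
    obtain ⟨i, hi⟩ := ((mset 15).equivFinOfCardEq (show (mset 15).card = 4 by decide +kernel)).symm.surjective ⟨q, hq⟩
    have := hgx i
    simp only [hi] at this
    rw [Equiv.Perm.smul_def, this]
    exact Subtype.coe_prop _
  rw [← e, oddCount_smul hg, oddCount_mset]
  decide +kernel

theorem oddCount_empty : oddCount (phi ∅) = 0 := by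
  rw [oddCount_phi]
  simp

/-- Every functional vanishing at the all-ones word comes from at most four points. -/
theorem exists_small (f : Module.Dual (ZMod 2) golayCode) (hf : f oneC = 0) :
    f = phi ∅ ∨ (∃ s : Finset GolayPt, s.card = 2 ∧ f = phi s) ∨ ∃ s : Finset GolayPt, s.card = 4 ∧ f = phi s := by
  classical
  haveI : Finite (Module.Dual (ZMod 2) golayCode) := Module.finite_of_finite (ZMod 2)
  haveI : Fintype (Module.Dual (ZMod 2) golayCode) := Fintype.ofFinite _
  set T := (Finset.univ : Finset (Module.Dual (ZMod 2) golayCode)).filter fun f => f oneC = 0 with hT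
  set D2 := ((Finset.univ : Finset GolayPt).powersetCard 2).image phi with hD2
  set D4 := ((Finset.univ : Finset GolayPt).powersetCard 4).image phi with hD4
  have c2 : D2.card = 276 := by
    rw [hD2, Finset.card_image_of_injOn, Finset.card_powersetCard, Finset.card_univ, card_golayPt]
    · decide
    · intro s hs t ht h
      rw [Finset.mem_coe, Finset.mem_powersetCard] at hs ht
      exact eq_of_phi_eq h (by omega)
  have c4 : 1771 ≤ D4.card := by
    have := Finset.card_le_mul_card_image (f := phi) ((Finset.univ : Finset GolayPt).powersetCard 4) 6 fun f hf => by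
      set R := ((Finset.univ : Finset GolayPt).powersetCard 4).filter fun s => phi s = f
      have h4 : ∀ s ∈ R, s.card = 4 := fun s hs => (Finset.mem_powersetCard.1 (Finset.mem_filter.1 hs).1).2
      have hd : (R : Set (Finset GolayPt)).PairwiseDisjoint id := fun s hs t ht hne =>
        disjoint_of_phi_eq (h4 s hs) (h4 t ht) hne ((Finset.mem_filter.1 hs).2.trans (Finset.mem_filter.1 ht).2.symm)
      have := Finset.card_le_univ (R.biUnion id)
      rw [Finset.card_biUnion hd, Finset.sum_congr rfl (fun s hs => show (id s).card = 4 from h4 s hs),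
        Finset.sum_const, smul_eq_mul, card_golayPt] at this
      omega
    rw [Finset.card_powersetCard, Finset.card_univ, card_golayPt, show Nat.choose 24 4 = 10626 by decide,
      ← hD4] at this
    omega
  have hcT : T.card ≤ 2048 := by
    obtain ⟨g, hg⟩ : ∃ g : Module.Dual (ZMod 2) golayCode, g oneC = 1 :=
      ⟨phi {none}, by rw [phi_one]; simp⟩
    have hdis : Disjoint T (T.image (· + g)) := by
      rw [Finset.disjoint_left]
      intro u hu hu'
      obtain ⟨w, hw, rfl⟩ := Finset.mem_image.1 hu'
      simp only [hT, Finset.mem_filter, Finset.mem_univ, true_and, LinearMap.add_apply, hg] at hu hw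
      rw [hw] at hu
      simp at hu
    have h := Finset.card_le_univ (T ∪ T.image (· + g))
    rw [Finset.card_union_of_disjoint hdis, Finset.card_image_of_injective _ (add_left_injective g),
      ← Nat.card_eq_fintype_card, Module.natCard_eq_pow_finrank (K := ZMod 2), Nat.card_zmod,
      Subspace.dual_finrank_eq, Cfsg.Agent.S0358.result] at h
    omega
  have hsub : insert (phi ∅) (D2 ∪ D4) ⊆ T := by
    intro u hu
    refine Finset.mem_filter.2 ⟨Finset.mem_univ _, ?_⟩
    simp only [hD2, hD4, Finset.mem_insert, Finset.mem_union, Finset.mem_image, Finset.mem_powersetCard] at hu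
    rcases hu with rfl | ⟨s, ⟨-, hs⟩, rfl⟩ | ⟨s, ⟨-, hs⟩, rfl⟩
    · rw [phi_one]; simp
    · rw [phi_one, hs]; decide
    · rw [phi_one, hs]; decide
  have hd24 : Disjoint D2 D4 := by
    rw [Finset.disjoint_left]
    intro u hu hu'
    obtain ⟨s, hs, rfl⟩ := Finset.mem_image.1 hu
    obtain ⟨t, ht, he⟩ := Finset.mem_image.1 hu'
    rw [Finset.mem_powersetCard] at hs ht
    have := eq_of_phi_eq he (by omega)
    rw [this] at ht
    omega
  have h0 : phi ∅ ∉ D2 ∪ D4 := by
    intro hc
    simp only [hD2, hD4, Finset.mem_union, Finset.mem_image, Finset.mem_powersetCard] at hc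
    rcases hc with ⟨s, ⟨-, hs⟩, he⟩ | ⟨s, ⟨-, hs⟩, he⟩ <;>
      · have := eq_of_phi_eq he (by simp [hs])
        simp [this] at hs
  have heq := Finset.eq_of_subset_of_card_le hsub (by
    rw [Finset.card_insert_of_notMem h0, Finset.card_union_of_disjoint hd24, c2]
    calc T.card ≤ 2048 := hcT
      _ = 276 + 1771 + 1 := by norm_num
      _ ≤ _ := Nat.add_le_add_right (Nat.add_le_add_left c4 _) 1)
  have hfT : f ∈ T := Finset.mem_filter.2 ⟨Finset.mem_univ _, hf⟩
  rw [← heq] at hfT
  simp only [hD2, hD4, Finset.mem_insert, Finset.mem_union, Finset.mem_image, Finset.mem_powersetCard] at hfT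
  rcases hfT with h | ⟨s, ⟨-, hs⟩, h⟩ | ⟨s, ⟨-, hs⟩, h⟩
  · exact Or.inl h
  · exact Or.inr (Or.inl ⟨s, hs, h.symm⟩)
  · exact Or.inr (Or.inr ⟨s, hs, h.symm⟩)

theorem duad_of_count {f : Module.Dual (ZMod 2) golayCode} (hf : f oneC = 0) (hc : oddCount f = 352) :
    ∃ s : Finset GolayPt, s.card = 2 ∧ f = phi s := by
  rcases exists_small f hf with rfl | h | ⟨s, hs, rfl⟩
  · rw [oddCount_empty] at hc; omega
  · exact h
  · rw [oddCount_tetrad hs] at hc; omega

theorem third : ∀ p q : GolayPt, ∃ r : GolayPt, r ≠ p ∧ r ≠ q := by decide +kernel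

/-- Bijections of pairs keeping the relation of meeting come from permutations of points. -/
theorem point_map (α : Finset GolayPt → Finset GolayPt) (hcard : ∀ s, s.card = 2 → (α s).card = 2)
    (hinj : ∀ s t, s.card = 2 → t.card = 2 → α s = α t → s = t)
    (hadj : ∀ s t, s.card = 2 → t.card = 2 → (s ∩ t).card = 1 → (α s ∩ α t).card = 1) :
    ∃ τ : Equiv.Perm GolayPt, ∀ p q, p ≠ q → α {p, q} = {τ p, τ q} := by
  classical
  have star : ∀ p, ∃ u, ∀ q, q ≠ p → u ∈ α {p, q} := by
    intro p
    obtain ⟨q, hqp⟩ := exists_ne p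
    obtain ⟨r, hr⟩ : ∃ r, r ∉ ({p, q} : Finset GolayPt) := by
      by_contra hc
      simp only [not_exists, not_not] at hc
      have := Finset.card_le_card (fun x (_ : x ∈ Finset.univ) => hc x)
      rw [Finset.card_univ, card_golayPt] at this
      exact absurd (this.trans Finset.card_le_two) (by norm_num)
    simp only [Finset.mem_insert, Finset.mem_singleton, not_or] at hr
    have c : ∀ t, t ≠ p → ({p, t} : Finset GolayPt).card = 2 := fun t ht => Finset.card_pair (Ne.symm ht)
    have ne : ∀ t t', t ≠ p → t' ≠ p → t ≠ t' → ({p, t} : Finset GolayPt) ≠ {p, t'} := by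
      intro t t' ht ht' htt he
      have : t ∈ ({p, t'} : Finset GolayPt) := he ▸ (by simp)
      simp [ht, htt] at this
    have meet : ∀ t t', t ≠ p → t' ≠ p → t ≠ t' → (α {p, t} ∩ α {p, t'}).card = 1 := by
      intro t t' ht ht' htt
      refine hadj _ _ (c t ht) (c t' ht') ?_
      rw [show ({p, t} : Finset GolayPt) ∩ {p, t'} = {p} by
        ext x; simp only [Finset.mem_inter, Finset.mem_insert, Finset.mem_singleton]
        constructor
        · rintro ⟨rfl | rfl, h⟩
          · rfl
          · rcases h with h | h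
            · exact h
            · exact absurd h htt
        · rintro rfl; simp]
      simp
    obtain ⟨u, hu⟩ := Finset.card_eq_one.1 (meet q r hqp hr.1 (Ne.symm hr.2))
    have huq : u ∈ α {p, q} := (Finset.mem_inter.1 (hu.symm ▸ Finset.mem_singleton_self u)).1
    have hur : u ∈ α {p, r} := (Finset.mem_inter.1 (hu.symm ▸ Finset.mem_singleton_self u)).2
    refine ⟨u, fun t ht => ?_⟩
    by_contra hut
    have htq : t ≠ q := fun e => hut (e ▸ huq)
    have htr : t ≠ r := fun e => hut (e ▸ hur)
    have other : ∀ s : Finset GolayPt, s.card = 2 → u ∈ s → ∃ v, v ≠ u ∧ s = {u, v} := by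
      intro s hs hus
      obtain ⟨v, hv⟩ := Finset.card_eq_one.1 (show (s.erase u).card = 1 by rw [Finset.card_erase_of_mem hus, hs])
      refine ⟨v, (Finset.mem_erase.1 (hv.symm ▸ Finset.mem_singleton_self v)).1, ?_⟩
      rw [← Finset.insert_erase hus, hv]
    obtain ⟨v, hvu, hv⟩ := other _ (hcard _ (c q hqp)) huq
    obtain ⟨w, hwu, hw⟩ := other _ (hcard _ (c r hr.1)) hur
    have hvw : v ≠ w := fun e => ne q r hqp hr.1 (Ne.symm hr.2) (hinj _ _ (c q hqp) (c r hr.1) (by rw [hv, hw, e]))
    have hvt : v ∈ α {p, t} := by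
      obtain ⟨z, hz⟩ := Finset.card_eq_one.1 (meet q t hqp ht (Ne.symm htq))
      have hz' : z ∈ α {p, q} ∩ α {p, t} := hz.symm ▸ Finset.mem_singleton_self z
      rw [Finset.mem_inter, hv] at hz'
      simp only [Finset.mem_insert, Finset.mem_singleton] at hz'
      rcases hz'.1 with rfl | rfl
      · exact absurd hz'.2 hut
      · exact hz'.2
    have hwt : w ∈ α {p, t} := by
      obtain ⟨z, hz⟩ := Finset.card_eq_one.1 (meet r t hr.1 ht (Ne.symm htr))
      have hz' : z ∈ α {p, r} ∩ α {p, t} := hz.symm ▸ Finset.mem_singleton_self z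
      rw [Finset.mem_inter, hw] at hz'
      simp only [Finset.mem_insert, Finset.mem_singleton] at hz'
      rcases hz'.1 with rfl | rfl
      · exact absurd hz'.2 hut
      · exact hz'.2
    have hat : α {p, t} = {v, w} := (Finset.eq_of_subset_of_card_le (by simp [Finset.insert_subset_iff, hvt, hwt])
      (by rw [Finset.card_pair hvw, hcard _ (c t ht)])).symm
    -- a further pair through `p`
    obtain ⟨x, hx⟩ : ∃ x, x ∉ ({p, q, r, t} : Finset GolayPt) := by
      by_contra hc
      simp only [not_exists, not_not] at hc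
      have := Finset.card_le_card (fun x (_ : x ∈ Finset.univ) => hc x)
      rw [Finset.card_univ, card_golayPt] at this
      exact absurd (this.trans Finset.card_le_four) (by norm_num)
    simp only [Finset.mem_insert, Finset.mem_singleton, not_or] at hx
    obtain ⟨hxp, hxq, hxr, hxt⟩ := hx
    have m1 := meet x q hxp hqp hxq
    have m2 := meet x r hxp hr.1 hxr
    have m3 := meet x t hxp ht hxt
    rw [hv] at m1; rw [hw] at m2; rw [hat] at m3
    have s2 := hcard _ (c x hxp)
    have key : ∀ a b : GolayPt, a ≠ b → (α {p, x} ∩ {a, b}).card = 1 → (a ∈ α {p, x} ↔ b ∉ α {p, x}) := by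
      intro a b hab h
      by_cases ha : a ∈ α {p, x} <;> by_cases hb : b ∈ α {p, x}
      · rw [Finset.inter_eq_right.2 (by simp [Finset.insert_subset_iff, ha, hb]), Finset.card_pair hab] at h
        omega
      · simp [ha, hb]
      · simp [ha, hb]
      · rw [Finset.inter_insert_of_notMem ha, Finset.inter_singleton_of_notMem hb] at h
        simp at h
    have k1 := key u v (Ne.symm hvu) m1
    have k2 := key u w (Ne.symm hwu) m2
    have k3 := key v w hvw m3
    tauto
  choose τ hτ using star
  have hτinj : Function.Injective τ := by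
    intro p p' h
    by_contra hne
    set W := ((Finset.univ : Finset GolayPt).erase p).image (fun q => ({p, q} : Finset GolayPt)) ∪
      ((Finset.univ : Finset GolayPt).erase p').image (fun q => ({p', q} : Finset GolayPt)) with hW
    have hmem : ∀ s ∈ W, s.card = 2 ∧ τ p ∈ α s := by
      intro s hs
      simp only [hW, Finset.mem_union, Finset.mem_image, Finset.mem_erase] at hs
      rcases hs with ⟨q, ⟨hq, -⟩, rfl⟩ | ⟨q, ⟨hq, -⟩, rfl⟩
      · exact ⟨Finset.card_pair (Ne.symm hq), hτ p q hq⟩
      · exact ⟨Finset.card_pair (Ne.symm hq), h ▸ hτ p' q hq⟩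
    have hle : W.card ≤ 23 := by
      have := Finset.card_le_card_of_injOn (t := ((Finset.univ : Finset GolayPt).erase (τ p)).image
        fun v => ({τ p, v} : Finset GolayPt)) α (fun s hs => ?_) (fun s hs t ht he =>
          hinj s t (hmem s hs).1 (hmem t ht).1 he)
      · refine this.trans (Finset.card_image_le.trans ?_)
        rw [Finset.card_erase_of_mem (Finset.mem_univ _), Finset.card_univ, card_golayPt]
      · obtain ⟨v, hv⟩ := Finset.card_eq_one.1 (show ((α s).erase (τ p)).card = 1 by
          rw [Finset.card_erase_of_mem (hmem s hs).2, hcard s (hmem s hs).1])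
        refine Finset.mem_image.2 ⟨v, ?_, ?_⟩
        · rw [Finset.mem_erase]
          exact ⟨(Finset.mem_erase.1 (hv.symm ▸ Finset.mem_singleton_self v)).1, Finset.mem_univ _⟩
        · rw [← hv, Finset.insert_erase (hmem s hs).2]
    obtain ⟨x, hxp, hxp'⟩ : ∃ x, x ≠ p ∧ x ≠ p' := third p p'
    have hge : 24 ≤ W.card := by
      have hA : (((Finset.univ : Finset GolayPt).erase p).image (fun q => ({p, q} : Finset GolayPt))).card = 23 := by
        rw [Finset.card_image_of_injOn, Finset.card_erase_of_mem (Finset.mem_univ _), Finset.card_univ, card_golayPt]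
        intro a ha b hb he
        simp only [Finset.coe_erase, Set.mem_diff, Set.mem_singleton_iff] at ha hb
        have : a ∈ ({p, b} : Finset GolayPt) := by simp only at he; rw [← he]; simp
        simpa [ha.2] using this
      have hins : insert ({p', x} : Finset GolayPt)
          (((Finset.univ : Finset GolayPt).erase p).image (fun q => ({p, q} : Finset GolayPt))) ⊆ W := by
        refine Finset.insert_subset (Finset.mem_union_right _ (Finset.mem_image.2 ⟨x, by simp [hxp'], rfl⟩))
          Finset.subset_union_left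
      have := Finset.card_le_card hins
      rw [Finset.card_insert_of_notMem, hA] at this
      · exact this
      · intro hc
        obtain ⟨q, -, he⟩ := Finset.mem_image.1 hc
        have : p ∈ ({p', x} : Finset GolayPt) := he ▸ (by simp)
        simp [hne, Ne.symm hxp] at this
    omega
  refine ⟨Equiv.ofBijective τ (Finite.injective_iff_bijective.1 hτinj), fun p q hpq => ?_⟩
  have h1 := hτ p q (Ne.symm hpq)
  have h2 : τ q ∈ α {p, q} := by rw [Finset.pair_comm]; exact hτ q p hpq
  refine (Finset.eq_of_subset_of_card_le ?_ ?_).symm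
  · simp [Finset.insert_subset_iff, h1, h2]
  · rw [hcard _ (Finset.card_pair hpq), show (Equiv.ofBijective τ _) p = τ p from rfl,
      show (Equiv.ofBijective τ _) q = τ q from rfl, Finset.card_pair fun e => hpq (hτinj e)]

/-- The linear map preserves the count of a functional. -/
theorem oddCount_comp (x : golayCode ≃ₗ[ZMod 2] golayCode) (h1 : x oneC = oneC)
    (hoct : ∀ o ∈ octads, ∀ h : ind o ∈ golayCode, ∃ o' ∈ octads,
      (x ⟨ind o, h⟩ : GolayPt → ZMod 2) = ind o' ∨ (x ⟨ind o, h⟩ : GolayPt → ZMod 2) = ind o' + fun _ => 1)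
    {f : Module.Dual (ZMod 2) golayCode} (hf : f oneC = 0) :
    oddCount (f.comp (x : golayCode →ₗ[ZMod 2] golayCode)) = oddCount f := by
  classical
  haveI : Fintype (Finset GolayPt) := inferInstance
  choose y hy hyx using fun o : {o : Finset GolayPt // o ∈ octads} => hoct o.1 o.2 (octad_word o.2)
  have hval : ∀ o, f (x ⟨ind o.1, octad_word o.2⟩) = f ⟨ind (y o), octad_word (hy o)⟩ := by
    intro o
    rcases hyx o with h | h
    · exact congrArg f (Subtype.ext h)
    · rw [show x ⟨ind o.1, octad_word o.2⟩ = ⟨ind (y o), octad_word (hy o)⟩ + oneC from Subtype.ext h,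
        map_add, hf, add_zero]
  let Y : {o : Finset GolayPt // o ∈ octads} → {o : Finset GolayPt // o ∈ octads} := fun o => ⟨y o, hy o⟩
  have hYinj : Function.Injective Y := by
    intro o o' h
    have he : y o = y o' := congrArg Subtype.val h
    apply Subtype.ext
    have hcases : x ⟨ind o.1, octad_word o.2⟩ = x ⟨ind o'.1, octad_word o'.2⟩ ∨
        x ⟨ind o.1, octad_word o.2⟩ = x ⟨ind o'.1, octad_word o'.2⟩ + oneC := by
      rcases hyx o with a | a <;> rcases hyx o' with b | b <;> rw [he] at a
      · exact Or.inl (Subtype.ext (a.trans b.symm))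
      · refine Or.inr (Subtype.ext ?_)
        show (x ⟨ind o.1, _⟩ : GolayPt → ZMod 2) = (x ⟨ind o'.1, _⟩ : GolayPt → ZMod 2) + fun _ => 1
        rw [a, b, add_assoc, add_self_word, add_zero]
      · refine Or.inr (Subtype.ext ?_)
        show (x ⟨ind o.1, _⟩ : GolayPt → ZMod 2) = (x ⟨ind o'.1, _⟩ : GolayPt → ZMod 2) + fun _ => 1
        rw [a, b]
      · exact Or.inl (Subtype.ext (a.trans b.symm))
    rcases hcases with e | e
    · have := congrArg Subtype.val (x.injective e)
      simpa [support₂_ind] using congrArg support₂ this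
    · exfalso
      rw [← h1, ← map_add] at e
      have h3 : ind o.1 = ind o'.1 + fun _ => (1 : ZMod 2) := congrArg Subtype.val (x.injective e)
      have hc : (support₂ (ind o.1)).card = 8 := by rw [support₂_ind]; exact o.2.2
      have ho' : (support₂ (ind o'.1 + fun _ => (1 : ZMod 2))) = (o'.1)ᶜ := by
        ext p
        simp only [support₂, Finset.mem_filter, Finset.mem_univ, true_and, Pi.add_apply, ind_apply,
          Finset.mem_compl]
        split <;> simp_all <;> decide
      rw [h3, ho', Finset.card_compl, o'.2.2, card_golayPt] at hc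
      omega
  have hY := Finite.injective_iff_bijective.1 hYinj
  set S : Module.Dual (ZMod 2) golayCode → Set (Finset GolayPt) := fun g =>
    {o | o ∈ octads ∧ ∃ h : ind o ∈ golayCode, g ⟨ind o, h⟩ = 1} with hS
  show (S _).ncard = (S f).ncard
  refine Set.ncard_congr (fun o ho => y ⟨o, ho.1⟩) (fun o ho => ⟨hy _, octad_word (hy _), ?_⟩)
    (fun o o' ho ho' h => congrArg Subtype.val (hYinj (Subtype.ext h : Y ⟨o, ho.1⟩ = Y ⟨o', ho'.1⟩)))
    fun o ho => ?_
  · obtain ⟨h, hv⟩ := ho.2
    rw [← hval ⟨o, ho.1⟩]
    exact hv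
  · obtain ⟨⟨o', ho'⟩, hY'⟩ := hY.2 ⟨o, ho.1⟩
    have e : y ⟨o', ho'⟩ = o := congrArg Subtype.val hY'
    refine ⟨o', ⟨ho', octad_word ho', ?_⟩, e⟩
    obtain ⟨h, hv⟩ := ho.2
    show f (x ⟨ind o', _⟩) = 1
    rw [hval ⟨o', ho'⟩]
    subst e
    exact hv

/-- Main: a linear map fixing the all-ones word and the octad classes is a permutation of `M24`. -/
theorem exists_perm (x : golayCode ≃ₗ[ZMod 2] golayCode) (h1 : x oneC = oneC)
    (hoct : ∀ o ∈ octads, ∀ h : ind o ∈ golayCode, ∃ o' ∈ octads,
      (x ⟨ind o, h⟩ : GolayPt → ZMod 2) = ind o' ∨ (x ⟨ind o, h⟩ : GolayPt → ZMod 2) = ind o' + fun _ => 1) :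
    ∃ σ ∈ M24, ∀ c : golayCode, (x c : GolayPt → ZMod 2) = (fun p => (c : GolayPt → ZMod 2) (σ.symm p)) ∨
      (x c : GolayPt → ZMod 2) = (fun p => (c : GolayPt → ZMod 2) (σ.symm p)) + fun _ => (1 : ZMod 2) := by
  classical
  -- the dual map on duads
  set M : Module.Dual (ZMod 2) golayCode → Module.Dual (ZMod 2) golayCode := fun f => f.comp (x : golayCode →ₗ[ZMod 2] golayCode)
  have hM1 : ∀ f, f oneC = 0 → M f oneC = 0 ∧ oddCount (M f) = oddCount f := fun f hf =>
    ⟨by show f (x oneC) = 0; rw [h1]; exact hf, oddCount_comp x h1 hoct hf⟩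
  have hdu : ∀ s : Finset GolayPt, s.card = 2 → phi s oneC = 0 := fun s hs => by rw [phi_one, hs]; decide
  choose! α hα2 hα using fun (s : Finset GolayPt) (hs : s.card = 2) =>
    duad_of_count (hM1 _ (hdu s hs)).1 ((hM1 _ (hdu s hs)).2.trans (oddCount_duad hs))
  have hMinj : Function.Injective M := by
    intro f g h
    refine LinearMap.ext fun c => ?_
    have := LinearMap.congr_fun h (x.symm c)
    simpa [M] using this
  have hinj : ∀ s t, s.card = 2 → t.card = 2 → α s = α t → s = t := fun s t hs ht h =>
    eq_of_phi_eq (hMinj ((hα s hs).trans ((congrArg phi h).trans (hα t ht).symm))) (by omega)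
  have hadj : ∀ s t, s.card = 2 → t.card = 2 → (s ∩ t).card = 1 → (α s ∩ α t).card = 1 := by
    intro s t hs ht hst
    have hsd : (s ∆ t).card = 2 := by
      rw [symmDiff_def, sup_eq_union, card_union_of_disjoint disjoint_sdiff_sdiff]
      have e1 := card_sdiff_add_card_inter s t
      have e2 := card_sdiff_add_card_inter t s
      rw [inter_comm t s] at e2
      omega
    have hp : phi (α s ∆ α t) = phi (α (s ∆ t)) := by
      rw [phi_symmDiff, ← hα s hs, ← hα t ht, ← hα _ hsd, phi_symmDiff]
      rfl
    have hc := eq_of_phi_eq hp (by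
      have := (Finset.card_le_card (show α s ∆ α t ⊆ α s ∪ α t from fun z hz => by
        rw [symmDiff_def, sup_eq_union, Finset.mem_union, Finset.mem_sdiff, Finset.mem_sdiff] at hz
        rw [Finset.mem_union]
        exact hz.imp And.left And.left)).trans (Finset.card_union_le _ _)
      rw [hα2 s hs, hα2 t ht] at this
      rw [hα2 _ hsd]
      omega)
    have hc2 : (α s ∆ α t).card = 2 := by rw [hc, hα2 _ hsd]
    rw [symmDiff_def, sup_eq_union, card_union_of_disjoint disjoint_sdiff_sdiff] at hc2
    have e1 := card_sdiff_add_card_inter (α s) (α t)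
    have e2 := card_sdiff_add_card_inter (α t) (α s)
    rw [inter_comm (α t) (α s), hα2 t ht] at e2
    rw [hα2 s hs] at e1
    omega
  obtain ⟨τ, hτ⟩ := point_map α hα2 hinj hadj
  -- coordinates
  have hcoord : ∀ (c : golayCode) (p q : GolayPt), p ≠ q →
      (x c : GolayPt → ZMod 2) p + (x c : GolayPt → ZMod 2) q =
        (c : GolayPt → ZMod 2) (τ p) + (c : GolayPt → ZMod 2) (τ q) := by
    intro c p q hpq
    have h := LinearMap.congr_fun (hα {p, q} (Finset.card_pair hpq)) c
    rw [hτ p q hpq] at h
    have e : ∀ (a b : GolayPt), a ≠ b → ∀ d : golayCode,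
        phi {a, b} d = (d : GolayPt → ZMod 2) a + (d : GolayPt → ZMod 2) b := by
      intro a b hab d
      rw [phi_apply]
      simp only [ind_apply, ite_mul, one_mul, zero_mul, Finset.sum_ite_mem, Finset.univ_inter]
      rw [Finset.sum_pair hab]
    rw [show M (phi {p, q}) c = phi {p, q} (x c) from rfl, e p q hpq,
      e (τ p) (τ q) (fun h => hpq (τ.injective h))] at h
    exact h
  have key : ∀ c : golayCode, (x c : GolayPt → ZMod 2) = (fun p => (c : GolayPt → ZMod 2) (τ p)) ∨
      (x c : GolayPt → ZMod 2) = (fun p => (c : GolayPt → ZMod 2) (τ p)) + fun _ => (1 : ZMod 2) := by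
    intro c
    have hz : ∀ p, (x c : GolayPt → ZMod 2) p + (c : GolayPt → ZMod 2) (τ p) =
        (x c : GolayPt → ZMod 2) none + (c : GolayPt → ZMod 2) (τ none) := by
      intro p
      by_cases hp : p = none
      · rw [hp]
      · have := hcoord c p none hp
        revert this
        generalize (x c : GolayPt → ZMod 2) p = a
        generalize (x c : GolayPt → ZMod 2) none = b
        generalize (c : GolayPt → ZMod 2) (τ p) = d
        generalize (c : GolayPt → ZMod 2) (τ none) = e
        revert a b d e; decide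
    rcases (show ∀ k : ZMod 2, k = 0 ∨ k = 1 by decide)
      ((x c : GolayPt → ZMod 2) none + (c : GolayPt → ZMod 2) (τ none)) with h | h
    · left
      funext p
      have := hz p; rw [h] at this
      revert this
      generalize (x c : GolayPt → ZMod 2) p = a
      generalize (c : GolayPt → ZMod 2) (τ p) = d
      revert a d; decide
    · right
      funext p
      have := hz p; rw [h] at this
      show _ = (c : GolayPt → ZMod 2) (τ p) + 1
      revert this
      generalize (x c : GolayPt → ZMod 2) p = a
      generalize (c : GolayPt → ZMod 2) (τ p) = d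
      revert a d; decide
  refine ⟨τ.symm, ?_, fun c => by simpa using key c⟩
  refine mem_setSystemAut_of_subset ?_
  rintro _ ⟨w, hw, rfl⟩
  refine ⟨actW τ.symm w, ?_, support₂_actW _ _⟩
  rcases key ⟨w, hw⟩ with h | h
  · show (fun p => w (τ.symm.symm p)) ∈ golayCode
    rw [Equiv.symm_symm]
    exact h ▸ (x ⟨w, hw⟩).2
  · have := golayCode.add_mem (x ⟨w, hw⟩).2 oneC.2
    rw [h, show (oneC : GolayPt → ZMod 2) = fun _ => 1 from rfl, add_assoc, add_self_word, add_zero] at this
    show (fun p => w (τ.symm.symm p)) ∈ golayCode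
    rw [Equiv.symm_symm]
    exact this

end Cfsg.Lib.Golay.Duads
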